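import Cfsg.Agent.H122.OrthBasePlus

/-!
# The minimal degree of `Ω⁺_{2n}(q)`, `q ≥ 4`
-/

set_option autoImplicit false

namespace Cfsg.Agent.H122.OrthPlus

open Module Cfsg.Agent.LieClassical.OrthCore Cfsg.Agent.LieClassical.OrthTrans
  Cfsg.Agent.LieClassical.OrthFinite Cfsg.Agent.LieClassical.OrthForms
  Cfsg.Agent.H122.OrthWt Cfsg.Agent.H122.OrthArith Cfsg.Agent.H122.OrthIso Cfsg.Agent.H122

/-- the group `Omega` of a form is the group generated by the Siegel elements -/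
theorem omega_equiv {F : Type*} {ι : Type} [Field F] [Finite F] [Fintype ι] [DecidableEq ι] {Q : QuadraticForm F (ι → F)}
    (hG : Good Q) : Nonempty (E Q ≃* Cfsg.Omega F ⇑Q) :=
  ⟨((omegaEquiv Q).trans (MulEquiv.subgroupCongr hG.commutator_eq_E)).symm⟩

variable {F : Type*} [Field F] [Fintype F]

/-- the minimal degree of `Ω⁺_{2n}(q)`, `n = k + 3`, `q ≥ 4` -/
theorem minDeg_plus (hF : 4 ≤ Fintype.card F) (k : ℕ) :
    MinDeg (E (plusForm (k + 3) F)) (Bm 1 (Fintype.card F) k).toNat := by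
  classical
  induction k with
  | zero => exact OrthBasePlus.base_plus hF
  | succ k ih =>
    have h1 : IsoQ (plusForm (k + 3) F) (HQ (HQ (plusForm (k + 1) F))) := (isoQ_plus (k + 2)).trans (isoQ_plus (k + 1)).hq
    have h2 : IsoQ (plusForm (k + 1 + 3) F) (HQ (HQ (HQ (plusForm (k + 1) F)))) := (isoQ_plus (k + 3)).trans h1.hq
    exact h2.symm.minDeg (step_plus hF (ty_plus (k + 1)) (h1.minDeg ih))

/-- the bound of the statement -/
theorem bound_plus {q k : ℕ} (hq : 2 ≤ q) :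
    (q ^ (k + 3) - 1) * (q ^ (k + 3 - 1) + q) / (q ^ 2 - 1) = (Bm 1 (q : ℤ) k).toNat := by
  have h1 := Bm_eq (ε := 1) (by norm_num) (q : ℤ) k
  have h2 : 1 ≤ q ^ 2 := Nat.one_le_pow _ _ (by omega)
  have h3 : 1 < q ^ 2 := by nlinarith
  have h4 : 1 ≤ q ^ (k + 3) := Nat.one_le_pow _ _ (by omega)
  have hB := Bm_nonneg (ε := 1) (q := (q : ℤ)) (Or.inl rfl) (by exact_mod_cast hq) k
  apply Nat.div_eq_of_eq_mul_right (by omega)
  zify [h2, h4]
  rw [Int.toNat_of_nonneg hB, h1]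
  have h5 : k + 3 - 1 = k + 2 := by omega
  rw [h5]
  ring

end Cfsg.Agent.H122.OrthPlus
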