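import Cfsg.Agent.H122.OrthIso
import Cfsg.Agent.H118.SLFinal
import Cfsg.Agent.LieClassical.KleinPlus
import Cfsg.Agent.Characters.Core

/-!
# The minimal degree of `Ω⁺₆(q)`, `q ≥ 4`

`base_plus`: from the minimal degree of `SL₄(q)` by the surjection `SL₄(q) → Ω⁺₆(q)`.
-/

set_option autoImplicit false

namespace Cfsg.Agent.H122

open Module

/-- the bound for representations on `Fin k → ℂ` gives `MinDeg` for perfect groups -/
theorem minDeg_of_fin {G : Type*} [Group G] [Finite G] (hG : commutator G = ⊤) {b : ℕ}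
    (h : ∀ (k : ℕ) (ρ : Representation ℂ G (Fin k → ℂ)), ρ.IsIrreducible → 2 ≤ k → b ≤ k) : MinDeg G b := by
  apply minDeg_of_irr
  intro M _ _ _ ρ hirr hρ
  have h1 := Cfsg.Agent.Characters.Core.isIrreducible_transportRep (Module.finBasis ℂ M).equivFun hirr
  refine h (finrank ℂ M) _ h1 ?_
  by_contra hcon
  have h2 : finrank ℂ M ≤ 1 := by omega
  obtain ⟨v0, hv0⟩ := finrank_le_one_iff.1 h2
  obtain ⟨g, hg⟩ := hρ
  apply hg
  -- the endomorphisms commute
  have hc : ∀ x y : G, ρ x * ρ y = ρ y * ρ x := by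
    intro x y
    apply LinearMap.ext
    intro v
    obtain ⟨a, ha⟩ := hv0 (ρ x v0)
    obtain ⟨b, hb⟩ := hv0 (ρ y v0)
    obtain ⟨c, rfl⟩ := hv0 v
    show ρ x (ρ y (c • v0)) = ρ y (ρ x (c • v0))
    rw [map_smul, map_smul, map_smul, map_smul, ← ha, ← hb, map_smul, map_smul, ← ha, ← hb, smul_comm a b v0]
  have hk : commutator G ≤ MonoidHom.ker (ρ : G →* Module.End ℂ M) := by
    rw [commutator_def, Subgroup.commutator_le]
    intro x _ y _
    rw [MonoidHom.mem_ker, commutatorElement_def, map_mul, map_mul, map_mul]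
    have e1 : ρ x * ρ y * ρ x⁻¹ * ρ y⁻¹ = ρ y * ρ x * ρ x⁻¹ * ρ y⁻¹ := by rw [hc x y]
    have e2 : ρ x * ρ x⁻¹ = 1 := by rw [← map_mul, mul_inv_cancel, map_one]
    have e3 : ρ y * ρ y⁻¹ = 1 := by rw [← map_mul, mul_inv_cancel, map_one]
    show ρ x * ρ y * ρ x⁻¹ * ρ y⁻¹ = 1
    rw [e1, mul_assoc (ρ y), e2, mul_one, e3]
  rw [hG] at hk
  exact MonoidHom.mem_ker.1 (hk (Subgroup.mem_top g))

end Cfsg.Agent.H122

namespace Cfsg.Agent.H122.OrthBasePlus

open Module Cfsg.Agent.LieClassical Cfsg.Agent.LieClassical.OrthCore Cfsg.Agent.LieClassical.OrthTrans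
  Cfsg.Agent.LieClassical.OrthFinite Cfsg.Agent.LieClassical.OrthForms Cfsg.Agent.LieClassical.SixModel
  Cfsg.Agent.H122.OrthWt Cfsg.Agent.H122.OrthArith Cfsg.Agent.H122

variable {F : Type*} [Field F]

theorem plusForm_eq : KleinPlus.plusForm F = plusForm 3 F := by
  apply DFunLike.coe_injective
  rw [KleinPlus.coe_plusForm, coe_plusForm]

theorem orth_eq : ReflGen.orth (KleinPlus.plusForm F : (Fin 3 ⊕ Fin 3 → F) → F) = O (plusForm 3 F) := by
  ext g
  rw [mem_O, plusForm_eq]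
  rfl

theorem range_phi : (KleinPlus.phi (F := F)).range =
    commutator (ReflGen.orth (KleinPlus.plusForm F : (Fin 3 ⊕ Fin 3 → F) → F)) := by
  apply le_antisymm _ (commutator_le_range KleinPlus.isPair KleinPlus.isAction (KleinPlus.reflGroup_plus (F := F)))
  rw [MonoidHom.range_eq_map, ← SLGen.commutator_eq_top (ι := Fin 4) (F := F) (by simp), commutator_def,
    commutator_def, Subgroup.map_commutator]
  exact Subgroup.commutator_mono le_top le_top

/-- `SL₄(F)` maps onto the commutator group -/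
theorem exists_hom (hG : Good (plusForm 3 F)) :
    ∃ f : Matrix.SpecialLinearGroup (Fin 4) F →* E (plusForm 3 F), Function.Surjective f := by
  let f0 : Matrix.SpecialLinearGroup (Fin 4) F →* ((Fin 3 ⊕ Fin 3 → F) ≃ₗ[F] (Fin 3 ⊕ Fin 3 → F)) :=
    (Subgroup.subtype _).comp (KleinPlus.phi (F := F))
  have hr : f0.range = E (plusForm 3 F) := by
    rw [← hG.commutator_eq_E, MonoidHom.range_comp, range_phi, commutator_def, Subgroup.map_commutator,
      ← MonoidHom.range_eq_map, Subgroup.range_subtype, orth_eq]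
  exact ⟨(MulEquiv.subgroupCongr hr).toMonoidHom.comp f0.rangeRestrict,
    (MulEquiv.subgroupCongr hr).surjective.comp f0.rangeRestrict_surjective⟩

/-- the minimal degree of `Ω⁺₆(q)`, `q ≥ 4` -/
theorem base_plus [Fintype F] (hF : 4 ≤ Fintype.card F) :
    MinDeg (E (plusForm 3 F)) (Bm 1 (Fintype.card F) 0).toNat := by
  classical
  have hG : Good (plusForm 3 F) := good_of_finite (nondeg_plusForm 3 F) (by
    rw [Module.finrank_fintype_fun_eq_card]; simp)
  obtain ⟨f, hf⟩ := exists_hom hG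
  refine MinDeg.of_surjective ?_ f hf
  apply minDeg_of_fin (SLGen.commutator_eq_top (by simp))
  intro k ρ hirr hk
  have h1 := Cfsg.Agent.H118.SLFinal.lower 4 (by norm_num) (by
    refine ⟨?_, ?_, ?_, ?_⟩ <;> intro h <;> simp at h <;> omega) k ρ hirr hk
  refine le_trans ?_ h1
  have hq : 2 ≤ Fintype.card F := Fintype.one_lt_card
  rw [← Cfsg.Agent.H118.SLFinal.DD_div hq (by omega), Int.toNat_le]
  have h2 : (Fintype.card F ^ 4 - Fintype.card F) / (Fintype.card F - 1) =
      Fintype.card F ^ 3 + Fintype.card F ^ 2 + Fintype.card F := by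
    obtain ⟨r, hr⟩ : ∃ r, Fintype.card F = r + 1 := ⟨Fintype.card F - 1, by omega⟩
    rw [hr, Nat.add_sub_cancel]
    apply Nat.div_eq_of_eq_mul_left (by omega)
    rw [Nat.sub_eq_iff_eq_add (by nlinarith [Nat.one_le_pow 3 (r + 1) (by omega)])]
    ring
  rw [h2]
  show (Fintype.card F : ℤ) ^ 3 + 1 * (Fintype.card F : ℤ) ^ 2 + (Fintype.card F : ℤ) ≤ _
  push_cast
  linarith

end Cfsg.Agent.H122.OrthBasePlus
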