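import Cfsg.Agent.H122.OrthTriv
import Cfsg.Agent.H122.OrthArithB

/-!
# The inductive step for the minimal degrees of `Ω^ε_{2n}(q)`

`step_plus`: `MinDeg` for `n = k + 3` gives it for `n = k + 4`, plus type, `q ≥ 4`.
`step_minus`: the same for the minus type, `n ≥ 5`.
-/

set_option autoImplicit false
set_option linter.unusedSectionVars false

namespace Cfsg.Agent.H122.OrthRed

open QuadraticMap Module Cfsg.Agent.LieClassical.OrthCore Cfsg.Agent.LieClassical.OrthTrans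
  Cfsg.Agent.H121.Wt Cfsg.Agent.H121.Chr Cfsg.Agent.LieClassical.OrthFinite
  Cfsg.Agent.H122.OrthWt Cfsg.Agent.H122.OrthSum Cfsg.Agent.H122.OrthInt Cfsg.Agent.H122.OrthTy
  Cfsg.Agent.H122.OrthRep Cfsg.Agent.H122.OrthStep Cfsg.Agent.H122.OrthTriv Cfsg.Agent.H122.OrthArith
  Cfsg.Agent.H122

/-! ### Inequalities -/

/-- two orbits of weights give too large a degree, plus type -/
theorem two_plus {q y : ℤ} (hq : 3 ≤ q) (hy : q ≤ y) {B : ℤ}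
    (hB : (q ^ 2 - 1) * B = q * (q ^ 3 * y - 1) * (q * y + 1)) : B ≤ 2 * (q * y * (q ^ 2 * y - 1)) := by
  have hq2 : 0 < q ^ 2 - 1 := by nlinarith
  apply le_of_mul_le_mul_left _ hq2
  rw [hB]
  have h1 : q ^ 3 + 2 * q ^ 2 - q - 2 ≤ y * (q ^ 4 - 2 * q ^ 2) := by
    have h2 : 0 < q ^ 4 - 2 * q ^ 2 := by nlinarith [pow_pos (show (0 : ℤ) < q by omega) 2]
    have h3 : q * (q ^ 4 - 2 * q ^ 2) ≤ y * (q ^ 4 - 2 * q ^ 2) := mul_le_mul_of_nonneg_right hy h2.le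
    have h4 : 9 ≤ q ^ 2 := by nlinarith
    have h5 : 7 * q ^ 3 ≤ q * (q ^ 4 - 2 * q ^ 2) := by
      have : q * (q ^ 4 - 2 * q ^ 2) = (q ^ 2 - 2) * q ^ 3 := by ring
      rw [this]
      exact mul_le_mul_of_nonneg_right (by omega) (by positivity)
    have h6 : 3 * q ^ 2 ≤ q ^ 3 := by
      have : q ^ 3 = q * q ^ 2 := by ring
      rw [this]
      exact mul_le_mul_of_nonneg_right hq (by positivity)
    linarith
  have h2 : 0 ≤ y * (y * (q ^ 4 - 2 * q ^ 2) - (q ^ 3 + 2 * q ^ 2 - q - 2)) + 1 := by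
    have : 0 ≤ y * (y * (q ^ 4 - 2 * q ^ 2) - (q ^ 3 + 2 * q ^ 2 - q - 2)) := by
      apply mul_nonneg (by omega)
      linarith
    linarith
  have h3 : 0 ≤ q * (y * (y * (q ^ 4 - 2 * q ^ 2) - (q ^ 3 + 2 * q ^ 2 - q - 2)) + 1) :=
    mul_nonneg (by omega) h2
  linarith

/-- two orbits of weights give too large a degree, minus type -/
theorem two_minus {q y : ℤ} (hq : 2 ≤ q) (hy : q ≤ y) {B : ℤ}
    (hB : (q ^ 2 - 1) * B = q * (q ^ 3 * y - -1) * (q * y + -1)) :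
    B ≤ 2 * (q * y * (q ^ 2 * y - -1) + (-1 * (q ^ 2 * y) - 1)) := by
  have hq2 : 0 < q ^ 2 - 1 := by nlinarith
  apply le_of_mul_le_mul_left _ hq2
  rw [hB]
  have h1 : 0 ≤ y * (q ^ 4 - 2 * q ^ 2) + 2 * q ^ 2 - q - 2 := by
    have h2 : 0 ≤ q ^ 4 - 2 * q ^ 2 := by nlinarith [pow_pos (show (0 : ℤ) < q by omega) 2]
    have h3 : 0 ≤ y * (q ^ 4 - 2 * q ^ 2) := mul_nonneg (by omega) h2
    nlinarith
  have h2 : 0 ≤ (q * y - 1) * (y * (q ^ 4 - 2 * q ^ 2) + 2 * q ^ 2 - q - 2) := by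
    apply mul_nonneg _ h1
    nlinarith
  linarith

/-- two orbits of weights give too large a degree -/
theorem two_false {ε q y t f S B D : ℤ} (hε : ε = 1 ∧ 3 ≤ q ∨ ε = -1) (hq2 : 2 ≤ q) (hyq : q ≤ y) (ht0 : 0 ≤ t)
    (hf0 : 0 ≤ f) (hfS : f ≤ S) (hS : 2 ≤ S) (hB : (q ^ 2 - 1) * B = q * (q ^ 3 * y - ε) * (q * y + ε))
    (hD : D < B) (hdim : D = t + f * (ε * (q ^ 2 * y) - 1) + S * (q * y * (q ^ 2 * y - ε))) : False := by
  have hqy : 4 ≤ q * y := by nlinarith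
  have hqqy : 8 ≤ q ^ 2 * y := by
    have : q ^ 2 * y = q * (q * y) := by ring
    rw [this]
    nlinarith
  rcases hε with ⟨rfl, hq3⟩ | rfl
  · have h1 := two_plus (q := q) (y := y) hq3 hyq hB
    have h2 : 0 ≤ f * (1 * (q ^ 2 * y) - 1) := mul_nonneg hf0 (by linarith)
    have h3 : 2 * (q * y * (q ^ 2 * y - 1)) ≤ S * (q * y * (q ^ 2 * y - 1)) :=
      mul_le_mul_of_nonneg_right hS (mul_nonneg (by linarith) (by linarith))
    linarith
  · have h1 := two_minus (q := q) (y := y) hq2 hyq hB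
    have h2 : S * (-1 * (q ^ 2 * y) - 1) ≤ f * (-1 * (q ^ 2 * y) - 1) :=
      mul_le_mul_of_nonpos_right hfS (by linarith)
    have h3 : 0 ≤ q * y * (q ^ 2 * y - -1) + (-1 * (q ^ 2 * y) - 1) := by
      have : q * y * (q ^ 2 * y - -1) + (-1 * (q ^ 2 * y) - 1) = (q ^ 2 * y + 1) * (q * y - 1) := by ring
      rw [this]
      exact mul_nonneg (by linarith) (by linarith)
    have h4 := mul_le_mul_of_nonneg_right hS h3
    rw [mul_add S] at h4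
    linarith

variable {F W : Type*} [Field F] [Fintype F] [AddCommGroup W] [Module F W] [Fintype W]

/-- the common part of the steps -/
theorem main_red {ε : ℤ} (hε : ε = 1 ∧ 3 ≤ Fintype.card F ∨ ε = -1) {k : ℕ} {Q0 : QuadraticForm F W}
    (hTy : Ty ε (k + 1) Q0)
    (hG : Good (HQ (HQ (HQ Q0)))) (hT : TransN (HQ (HQ Q0))) {ψ : AddChar F ℂ} (hψ : ψ ≠ 1)
    {M : Type} [AddCommGroup M] [Module ℂ M] [FiniteDimensional ℂ M] (ρ : Representation ℂ (E (HQ (HQ (HQ Q0)))) M)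
    (hρ : ∃ g, ρ g ≠ 1) {b : ℕ} (hb : MinDeg (E (HQ (HQ Q0))) b) (P : F → Prop) (hP0 : P 0)
    (htriv : ∀ l : (W × F × F) × F × F, l ≠ 0 → l.2.2 = 0 → l.1.2.2 = 0 →
      mu (HQ (HQ Q0)) ρ ψ l ≤ 1 → P (HQ (HQ Q0) l) →
      ∀ v ∈ ws (HQ (HQ Q0)) ρ ψ l, ρ (extE (HQ (HQ Q0)) (rE Q0)) v = v)
    (hD : (finrank ℂ M : ℤ) < Bm ε (Fintype.card F) (k + 1)) :
    (∑ c, fm (HQ Q0) ρ ψ c = 1 ∧ fm (HQ Q0) ρ ψ 0 = 0 ∧ ((∀ c, P c) → b ≤ mu (HQ (HQ Q0)) ρ ψ 0) ∧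
      (finrank ℂ M : ℤ) = mu (HQ (HQ Q0)) ρ ψ 0 +
        ((Fintype.card F : ℤ) ^ (k + 2) * ((Fintype.card F : ℤ) ^ (k + 3) - ε))) ∨
    (∃ t : ℤ, (b : ℤ) ≤ t ∧ t ≤ Bm ε (Fintype.card F) k ∧
      (finrank ℂ M : ℤ) = t + (ε * (Fintype.card F : ℤ) ^ (k + 3) - 1) +
        ((Fintype.card F : ℤ) ^ (k + 2) * ((Fintype.card F : ℤ) ^ (k + 3) - ε)) ∧
      ∀ g : E (HQ (HQ (HQ Q0))), IsRt (HQ (HQ (HQ Q0))) g.1 → LinearMap.trace ℂ M (ρ g) =
        ((t + (ε * (Fintype.card F : ℤ) ^ (k + 3) - 1) - ε * (Fintype.card F : ℤ) ^ (k + 2) : ℤ) : ℂ)) := by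
  classical
  obtain ⟨hS1, hdim, htr, ht⟩ := analysis ρ hTy hG hT hψ hρ hb P htriv
  have hεε : ε * ε = 1 := by rcases hε with ⟨rfl, -⟩ | rfl <;> norm_num
  set q : ℤ := (Fintype.card F : ℤ) with hq
  have hq2 : 2 ≤ q := by
    have : 1 < Fintype.card F := Fintype.one_lt_card
    omega
  set S := ∑ c, fm (HQ Q0) ρ ψ c with hS
  set t : ℤ := (mu (HQ (HQ Q0)) ρ ψ 0 : ℤ) with htd
  have ht0 : 0 ≤ t := by positivity
  set y := q ^ (k + 1) with hy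
  have e2 : q ^ (k + 1 + 1) = q * y := by rw [hy]; ring
  have e2' : q ^ (k + 2) = q * y := by rw [hy]; ring
  have e3 : q ^ (k + 1 + 2) = q ^ 2 * y := by rw [hy]; ring
  have e3' : q ^ (k + 3) = q ^ 2 * y := by rw [hy]; ring
  have hyq : q ≤ y := by
    calc q = q ^ 1 := (pow_one q).symm
      _ ≤ q ^ (k + 1) := pow_le_pow_right₀ (by omega) (by omega)
  have hB1 := Bm_eq hεε q (k + 1)
  have e5 : q ^ (k + 1 + 3) = q ^ 3 * y := by rw [hy]; ring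
  rw [e5, e2] at hB1
  rw [e2, e3] at hdim
  simp only [e2, e3] at htr
  have hT0 : 0 < q * y * (q ^ 2 * y - ε) := by
    have : 1 < q ^ 2 * y := by nlinarith
    have h2 : ε ≤ 1 := by rcases hε with ⟨rfl, -⟩ | rfl <;> norm_num
    have h3 : 0 < q * y := by nlinarith
    exact mul_pos h3 (by linarith)
  have hf0 : fm (HQ Q0) ρ ψ 0 ≤ S :=
    Finset.single_le_sum (f := fun c => fm (HQ Q0) ρ ψ c) (fun _ _ => Nat.zero_le _) (Finset.mem_univ 0)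
  have hS2 : S < 2 := by
    by_contra hcon
    push Not at hcon
    have hSZ : (2 : ℤ) ≤ (S : ℤ) := by exact_mod_cast hcon
    have hf0Z : (fm (HQ Q0) ρ ψ 0 : ℤ) ≤ (S : ℤ) := by exact_mod_cast hf0
    have hf00 : (0 : ℤ) ≤ (fm (HQ Q0) ρ ψ 0 : ℤ) := by positivity
    have hε' : ε = 1 ∧ 3 ≤ q ∨ ε = -1 := by
      rcases hε with ⟨h, h'⟩ | h
      · exact Or.inl ⟨h, by rw [hq]; exact_mod_cast h'⟩
      · exact Or.inr h
    exact two_false hε' hq2 hyq ht0 hf00 hf0Z hSZ hB1 hD hdim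
  have hS3 : S = 1 := by omega
  have hle : ∀ c, fm (HQ Q0) ρ ψ c ≤ 1 := by
    intro c
    have : fm (HQ Q0) ρ ψ c ≤ S :=
      Finset.single_le_sum (f := fun c => fm (HQ Q0) ρ ψ c) (fun _ _ => Nat.zero_le _) (Finset.mem_univ c)
    omega
  rw [hS3, Nat.cast_one, one_mul] at hdim
  by_cases hf : fm (HQ Q0) ρ ψ 0 = 0
  · left
    refine ⟨hS3, hf, fun hP => ht hle fun c _ => hP c, ?_⟩
    rw [hf, Nat.cast_zero, zero_mul, add_zero] at hdim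
    rw [hdim, e2', e3']
  · right
    have hf1 : fm (HQ Q0) ρ ψ 0 = 1 := by have := hle 0; omega
    rw [hf1, Nat.cast_one, one_mul] at hdim
    have htr' := htr
    simp only [hf1, hS3, Nat.cast_one, one_mul] at htr'
    refine ⟨t, ?_, ?_, ?_, ?_⟩
    · have h1 := ht hle fun c hc => by
        have : c = 0 := by
          by_contra hc0
          have h2 : fm (HQ Q0) ρ ψ 0 + fm (HQ Q0) ρ ψ c ≤ S := by
            rw [hS, ← Finset.add_sum_erase Finset.univ _ (Finset.mem_univ (0 : F))]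
            have := Finset.single_le_sum (f := fun c => fm (HQ Q0) ρ ψ c) (fun _ _ => Nat.zero_le _)
              (Finset.mem_erase.2 ⟨hc0, Finset.mem_univ c⟩)
            omega
          omega
        rw [this]
        exact hP0
      rw [htd]
      exact_mod_cast h1
    · have h2 := Bm_succ ε q k
      rw [e2', e3'] at h2
      rw [h2, hdim] at hD
      have h3 : (q ^ 2 * y - ε) * (q * y + ε) = q * y * (q ^ 2 * y - ε) + (ε * (q ^ 2 * y) - 1) := by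
        linear_combination -hεε
      rw [h3] at hD
      linarith
    · rw [hdim, e2', e3']
    · intro g hg
      rw [htr' g hg, e2', e3']

/-- the divisibility argument -/
theorem dvd_red {ε : ℤ} (hε : ε = 1 ∨ ε = -1) {k : ℕ} {Q0 : QuadraticForm F W}
    (hTy : Ty ε (k + 1) Q0) (hG : Good (HQ (HQ (HQ Q0))))
    {M : Type} [AddCommGroup M] [Module ℂ M] [FiniteDimensional ℂ M] (ρ : Representation ℂ (E (HQ (HQ (HQ Q0)))) M)
    (hirr : ρ.IsIrreducible) {z : ℤ}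
    (hz : ∀ g : E (HQ (HQ (HQ Q0))), IsRt (HQ (HQ (HQ Q0))) g.1 → LinearMap.trace ℂ M (ρ g) = (z : ℂ)) :
    ∃ X : ℤ, X * ((Fintype.card F : ℤ) ^ 2 - 1) =
      (((Fintype.card F : ℤ) ^ (k + 4) - ε) * ((Fintype.card F : ℤ) ^ (k + 3) + ε)) *
        (((Fintype.card F : ℤ) ^ (k + 3) - ε) * ((Fintype.card F : ℤ) ^ (k + 2) + ε)) ∧
      (finrank ℂ M : ℤ) ∣ X * z := by
  obtain ⟨X, hX, hd⟩ := dvd_root (HQ (HQ Q0)) hG ρ hirr hz
  refine ⟨X, ?_, hd⟩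
  have h1 := hTy.up.up.up.card_NS hε
  have h2 := hTy.up.up.card_NS hε
  have h3 : ((X * (Fintype.card F ^ 2 - 1) : ℕ) : ℤ) = ((NS (HQ (HQ (HQ Q0))) * NS (HQ (HQ Q0)) : ℕ) : ℤ) := by
    rw [hX]
  have h4 : 1 ≤ Fintype.card F ^ 2 := Nat.one_le_pow _ _ Fintype.card_pos
  rw [Nat.cast_mul, Nat.cast_mul, Nat.cast_sub h4, h1, h2] at h3
  push_cast at h3
  exact h3

theorem exists_psi (F : Type*) [Field F] [Finite F] : ∃ ψ : AddChar F ℂ, ψ ≠ 1 := by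
  obtain ⟨ψ, hψ1⟩ : ∃ ψ : AddChar F ℂ, ψ 1 ≠ 1 := AddChar.exists_apply_ne_zero.mpr one_ne_zero
  exact ⟨ψ, fun h => hψ1 (by rw [h]; rfl)⟩

end Cfsg.Agent.H122.OrthRed
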