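import Cfsg.Agent.H122.OrthTy

/-!
# Analysis of a representation of `Ω(V)`, `V` of dimension `2 (m + 3)` and type `ε`

`Q0` of type `ε` in dimension `2 m`, `Q = Q0 ⟂ H ⟂ H` the form on the unipotent radical, `ρ` a nontrivial
representation of `E (HQ Q)`. `analysis`: the multiplicities `f c` of the nonzero weights of norm `c`, the degree, the
trace of root elements, and a lower bound for the dimension of the fixed space of the unipotent radical.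
-/

set_option autoImplicit false
set_option linter.unusedSectionVars false

namespace Cfsg.Agent.H122.OrthStep

open QuadraticMap Module Cfsg.Agent.LieClassical.OrthCore Cfsg.Agent.LieClassical.OrthTrans
  Cfsg.Agent.H121.Wt Cfsg.Agent.H121.Chr Cfsg.Agent.LieClassical.OrthFinite
  Cfsg.Agent.H122.OrthWt Cfsg.Agent.H122.OrthSum Cfsg.Agent.H122.OrthInt Cfsg.Agent.H122.OrthTy
  Cfsg.Agent.H122.OrthRep Cfsg.Agent.H122

variable {F W : Type*} [Field F] [Fintype F] [AddCommGroup W] [Module F W] [Fintype W]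

/-! ### Multiplicities -/

section Mult

variable (Q : QuadraticForm F W) {M : Type*} [AddCommGroup M] [Module ℂ M] [FiniteDimensional ℂ M]
  (ρ : Representation ℂ (E (HQ (HQ Q))) M)

/-- the multiplicity of the nonzero weights of norm `c` -/
noncomputable def fm (ψ : AddChar F ℂ) (c : F) : ℕ := mu (HQ Q) ρ ψ (0, 1, c)

theorem mu_eq_fm (hT : TransN (HQ Q)) (ψ : AddChar F ℂ) {l : W × F × F} (hl : l ≠ 0) :
    mu (HQ Q) ρ ψ l = fm Q ρ ψ (HQ Q l) := by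
  have h1 : ((0, 1, HQ Q l) : W × F × F) ≠ 0 := by
    intro h
    have := congrArg (fun x : W × F × F => x.2.1) h
    simp at this
  obtain ⟨g, hg, he⟩ := hT (0, 1, HQ Q l) l h1 hl (by rw [HQ_apply Q (0, 1, HQ Q l)]; simp)
  have h2 := mu_extE (HQ Q) ρ ψ ⟨g, hg⟩ (0, 1, HQ Q l)
  have h3 : ((⟨g, hg⟩ : E (HQ Q)) : (W × F × F) ≃ₗ[F] (W × F × F)) (0, 1, HQ Q l) = l := he
  rw [h3] at h2
  exact h2

/-- sums of multiplicities -/
theorem sum_mul_mu (hT : TransN (HQ Q)) (ψ : AddChar F ℂ) (w : W × F × F → ℂ) :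
    ∑ l, w l * (mu (HQ Q) ρ ψ l : ℂ) = w 0 * ((mu (HQ Q) ρ ψ 0 : ℂ) - fm Q ρ ψ 0) +
      ∑ l, w l * (fm Q ρ ψ (HQ Q l) : ℂ) := by
  classical
  rw [← Finset.add_sum_erase Finset.univ _ (Finset.mem_univ (0 : W × F × F)),
    ← Finset.add_sum_erase Finset.univ (fun l => w l * (fm Q ρ ψ (HQ Q l) : ℂ)) (Finset.mem_univ (0 : W × F × F)),
    Finset.sum_congr rfl (g := fun l => w l * (fm Q ρ ψ (HQ Q l) : ℂ))
      (fun l hl => by rw [mu_eq_fm Q ρ hT ψ (Finset.ne_of_mem_erase hl)]), QuadraticMap.map_zero]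
  ring

theorem finrank_eq (hQ : Nondeg (HQ Q)) (hT : TransN (HQ Q)) {ψ : AddChar F ℂ} (hψ : ψ ≠ 1) :
    (finrank ℂ M : ℂ) = (mu (HQ Q) ρ ψ 0 : ℂ) - fm Q ρ ψ 0 + Sm (HQ Q) (fun c => (fm Q ρ ψ c : ℂ)) := by
  have h1 := sum_mu (HQ Q) ρ hQ hψ
  have h2 := sum_mul_mu Q ρ hT ψ (fun _ => 1)
  simp only [one_mul] at h2
  rw [← h1]
  push_cast
  rw [h2]
  rfl

theorem trace_e0 (hQ : Nondeg (HQ Q)) (hT : TransN (HQ Q)) {ψ : AddChar F ℂ} (hψ : ψ ≠ 1) :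
    LinearMap.trace ℂ M (ρ (sE (HQ Q) (e0 F W))) = (mu (HQ Q) ρ ψ 0 : ℂ) - fm Q ρ ψ 0 +
      ((Fintype.card F : ℂ) * Sm Q (fun c => (fm Q ρ ψ c : ℂ)) -
        Fintype.card W * Ph (fun c => (fm Q ρ ψ c : ℂ))) := by
  rw [trace_sE (HQ Q) ρ hQ hψ]
  have h1 : ∀ l : W × F × F, ψ (polar (HQ Q) l (e0 F W)) = ψ l.2.2 := fun l => by
    rw [polar_comm, polar_e0]
  simp only [h1]
  rw [sum_mul_mu Q ρ hT ψ (fun l => ψ l.2.2), sum_HQ_char Q (fun c => (fm Q ρ ψ c : ℂ)) hψ]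
  simp

/-- a nontrivial representation has a nonzero weight -/
theorem exists_fm (hG : Good (HQ (HQ Q))) (hQ : Nondeg (HQ Q)) (hT : TransN (HQ Q)) {ψ : AddChar F ℂ}
    (hψ : ψ ≠ 1) (h : ∃ g, ρ g ≠ 1) : 1 ≤ ∑ c, fm Q ρ ψ c := by
  by_contra hcon
  have h0 : ∑ c, fm Q ρ ψ c = 0 := by omega
  have h1 : ∀ c, fm Q ρ ψ c = 0 := fun c => (Finset.sum_eq_zero_iff.1 h0) c (Finset.mem_univ c)
  obtain ⟨w, hw⟩ := exists_sE_ne_one (HQ Q) ρ hG h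
  obtain ⟨χ, hχ, hχ1⟩ := exists_wt (isAct (HQ Q) ρ) hw
  obtain ⟨l, rfl⟩ := (chEquiv (HQ Q) hQ hψ).surjective χ
  have hl : l ≠ 0 := by
    rintro rfl
    apply hχ1
    rw [chEquiv_apply, ch_zero]
    rfl
  apply hχ
  have h2 := mu_eq_fm Q ρ hT ψ hl
  rw [h1] at h2
  exact Submodule.finrank_eq_zero.1 h2

end Mult

/-! ### The root element of the Levi factor -/

section Root

variable (Q0 : QuadraticForm F W)

/-- the second vector of the plane of the root element -/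
abbrev y0 (F W : Type*) [Field F] [AddCommGroup W] : (W × F × F) × F × F := em F (e0 F W)

theorem y0_sing : HQ (HQ Q0) (y0 F W) = 0 := by rw [HQ_em]; exact (hyp0 Q0).left

theorem x0_sing : HQ (HQ Q0) (e0 F (W × F × F)) = 0 := (hyp0 (HQ Q0)).left

theorem x0_y0 : polar (HQ (HQ Q0)) (e0 F (W × F × F)) (y0 F W) = 0 := polar_e0_em _ _

theorem polar_y0 (l : (W × F × F) × F × F) : polar (HQ (HQ Q0)) (y0 F W) l = l.1.2.2 := by
  rw [polar_em, polar_e0]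

/-- the root element -/
def rt : ((W × F × F) × F × F) ≃ₗ[F] ((W × F × F) × F × F) :=
  siegel (HQ (HQ Q0)) (e0 F (W × F × F)) (y0 F W) (x0_sing Q0) (x0_y0 Q0)

theorem rt_mem : rt Q0 ∈ E (HQ (HQ Q0)) := siegel_mem_E _ _

/-- the root element as an element of the group -/
def rE : E (HQ (HQ Q0)) := ⟨rt Q0, rt_mem Q0⟩

theorem rt_fix {l : (W × F × F) × F × F} (h : rt Q0 l = l) : l.2.2 = 0 ∧ l.1.2.2 = 0 := by
  have h1 : rt Q0 l - l = 0 := by rw [h, sub_self]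
  rw [rt, siegel_sub _ _ (y0_sing Q0), polar_e0, polar_y0] at h1
  have h2 := congrArg (fun x : (W × F × F) × F × F => x.1.2.1) h1
  have h3 := congrArg (fun x : (W × F × F) × F × F => x.2.1) h1
  simp at h2 h3
  exact ⟨h2, h3⟩

theorem rt_fix' {l : (W × F × F) × F × F} (h : l.2.2 = 0 ∧ l.1.2.2 = 0) : rt Q0 l = l := by
  have h1 : rt Q0 l - l = 0 := by
    rw [rt, siegel_sub _ _ (y0_sing Q0), polar_e0, polar_y0, h.1, h.2, zero_smul, zero_smul, sub_zero]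
  exact sub_eq_zero.1 h1

end Root

section Main

variable {Q0 : QuadraticForm F W} {M : Type} [AddCommGroup M] [Module ℂ M] [FiniteDimensional ℂ M]
  (ρ : Representation ℂ (E (HQ (HQ (HQ Q0)))) M)

theorem trace_rE (hG : Good (HQ (HQ (HQ Q0)))) (hT : TransN (HQ (HQ Q0))) :
    LinearMap.trace ℂ M (ρ (extE (HQ (HQ Q0)) (rE Q0))) =
      LinearMap.trace ℂ M (ρ (sE (HQ (HQ Q0)) (e0 F (W × F × F)))) := by
  have h1 := ext_siegel (HQ (HQ Q0)) (x0_sing Q0) (x0_y0 Q0)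
  have hu : HQ (HQ (HQ Q0)) (em F (e0 F (W × F × F))) = 0 := by rw [HQ_em]; exact x0_sing Q0
  have hw : polar (HQ (HQ (HQ Q0))) (em F (e0 F (W × F × F))) (em F (y0 F W)) = 0 := by
    rw [polar_em_em]; exact x0_y0 Q0
  have hne : (e0 F (W × F × F)) ≠ 0 := (hyp0 (HQ Q0)).left_ne
  have h2 : extE (HQ (HQ Q0)) (rE Q0) = ⟨siegel (HQ (HQ (HQ Q0))) (em F (e0 F (W × F × F))) (em F (y0 F W)) hu hw,
      siegel_mem_E hu hw⟩ := Subtype.ext h1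
  rw [h2]
  refine trace_root (HQ (HQ Q0)) ρ hG hT hu hw ?_ ?_ ?_ hne (x0_sing Q0) _
  · rw [HQ_em]; exact y0_sing Q0
  · intro h
    exact hne (congrArg Prod.fst h)
  · intro c hc
    have h3 := congrArg (fun x : ((W × F × F) × F × F) × F × F => x.1.1.2.1) hc
    simp at h3

/-- the trace of the root element of the Levi factor on the fixed space of the unipotent radical -/
theorem trace_fix (hG : Good (HQ (HQ (HQ Q0)))) (hQ : Nondeg (HQ (HQ Q0))) (hT : TransN (HQ (HQ Q0)))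
    {ψ : AddChar F ℂ} (hψ : ψ ≠ 1)
    (htriv : ∀ l : (W × F × F) × F × F, l ≠ 0 → l.2.2 = 0 → l.1.2.2 = 0 →
      ∀ v ∈ ws (HQ (HQ Q0)) ρ ψ l, ρ (extE (HQ (HQ Q0)) (rE Q0)) v = v) :
    LinearMap.trace ℂ M (ρ (extE (HQ (HQ Q0)) (rE Q0)) * pr (RR (HQ (HQ Q0)) ρ) 1) =
      (mu (HQ (HQ Q0)) ρ ψ 0 : ℂ) -
        (Fintype.card F : ℂ) * Fintype.card W * Ph (fun c => (fm (HQ Q0) ρ ψ c : ℂ)) := by
  classical
  have h1 := trace_extE (HQ (HQ Q0)) ρ hQ hψ (rE Q0)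
  rw [trace_rE ρ hG hT, trace_sE (HQ (HQ Q0)) ρ hQ hψ,
    ← Finset.add_sum_erase Finset.univ (fun l => LinearMap.trace ℂ M (ρ (extE (HQ (HQ Q0)) (rE Q0)) *
      pr (RR (HQ (HQ Q0)) ρ) (ch (HQ (HQ Q0)) ψ l))) (Finset.mem_univ (0 : (W × F × F) × F × F)), ch_zero] at h1
  have h2 : ∑ l ∈ Finset.univ.erase (0 : (W × F × F) × F × F), LinearMap.trace ℂ M
      (ρ (extE (HQ (HQ Q0)) (rE Q0)) * pr (RR (HQ (HQ Q0)) ρ) (ch (HQ (HQ Q0)) ψ l)) =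
      ∑ l ∈ Finset.univ.erase (0 : (W × F × F) × F × F),
        (if l.2.2 = 0 ∧ l.1.2.2 = 0 then (1 : ℂ) else 0) * (mu (HQ (HQ Q0)) ρ ψ l : ℂ) := by
    refine Finset.sum_congr rfl fun l hl => ?_
    by_cases hc : l.2.2 = 0 ∧ l.1.2.2 = 0
    · rw [if_pos hc]
      refine trace_mul_pr_of_smul (isAct (HQ (HQ Q0)) ρ) fun v hv => ?_
      rw [one_smul]
      exact htriv l (Finset.ne_of_mem_erase hl) hc.1 hc.2 v hv
    · rw [if_neg hc, zero_mul]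
      exact trace_extE_of_ne (HQ (HQ Q0)) ρ hQ hψ (rE Q0) (fun h => hc (rt_fix Q0 h))
  rw [h2] at h1
  have h3 : ∀ l : (W × F × F) × F × F, ψ (polar (HQ (HQ Q0)) l (e0 F (W × F × F))) = ψ l.2.2 := fun l => by
    rw [polar_comm, polar_e0]
  simp only [h3] at h1
  have h4 : ∑ l ∈ Finset.univ.erase (0 : (W × F × F) × F × F),
        (if l.2.2 = 0 ∧ l.1.2.2 = 0 then (1 : ℂ) else 0) * (mu (HQ (HQ Q0)) ρ ψ l : ℂ) =
      ∑ l, (if l.2.2 = 0 ∧ l.1.2.2 = 0 then (1 : ℂ) else 0) * (mu (HQ (HQ Q0)) ρ ψ l : ℂ) -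
        (mu (HQ (HQ Q0)) ρ ψ 0 : ℂ) := by
    rw [Finset.sum_erase_eq_sub (Finset.mem_univ _)]
    simp
  rw [h4] at h1
  have h5 : LinearMap.trace ℂ M (ρ (extE (HQ (HQ Q0)) (rE Q0)) * pr (RR (HQ (HQ Q0)) ρ) 1) =
      (mu (HQ (HQ Q0)) ρ ψ 0 : ℂ) + ∑ l : (W × F × F) × F × F,
        (ψ l.2.2 - if l.2.2 = 0 ∧ l.1.2.2 = 0 then (1 : ℂ) else 0) * (mu (HQ (HQ Q0)) ρ ψ l : ℂ) := by
    simp only [sub_mul, Finset.sum_sub_distrib]
    linear_combination -h1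
  rw [h5, sum_mul_mu (HQ Q0) ρ hT ψ (fun l => ψ l.2.2 - if l.2.2 = 0 ∧ l.1.2.2 = 0 then (1 : ℂ) else 0),
    sum_diff Q0 (fun c => (fm (HQ Q0) ρ ψ c : ℂ)) hψ]
  simp
  ring

/-- **Analysis** of a nontrivial representation -/
theorem analysis {ε : ℤ} {m : ℕ} (hTy : Ty ε m Q0) (hG : Good (HQ (HQ (HQ Q0))))
    (hT : TransN (HQ (HQ Q0))) {ψ : AddChar F ℂ} (hψ : ψ ≠ 1)
    (hρ : ∃ g, ρ g ≠ 1) {b : ℕ} (hb : MinDeg (E (HQ (HQ Q0))) b) (P : F → Prop)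
    (htriv : ∀ l : (W × F × F) × F × F, l ≠ 0 → l.2.2 = 0 → l.1.2.2 = 0 →
      mu (HQ (HQ Q0)) ρ ψ l ≤ 1 → P (HQ (HQ Q0) l) →
      ∀ v ∈ ws (HQ (HQ Q0)) ρ ψ l, ρ (extE (HQ (HQ Q0)) (rE Q0)) v = v) :
    1 ≤ ∑ c, fm (HQ Q0) ρ ψ c ∧
    (finrank ℂ M : ℤ) = mu (HQ (HQ Q0)) ρ ψ 0 + fm (HQ Q0) ρ ψ 0 * (ε * (Fintype.card F : ℤ) ^ (m + 2) - 1) +
      (∑ c, fm (HQ Q0) ρ ψ c : ℕ) * ((Fintype.card F : ℤ) ^ (m + 1) * ((Fintype.card F : ℤ) ^ (m + 2) - ε)) ∧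
    (∀ g : E (HQ (HQ (HQ Q0))), IsRt (HQ (HQ (HQ Q0))) g.1 → LinearMap.trace ℂ M (ρ g) =
      (((mu (HQ (HQ Q0)) ρ ψ 0 : ℤ) + fm (HQ Q0) ρ ψ 0 * (ε * (Fintype.card F : ℤ) ^ (m + 2) - 1) -
        (∑ c, fm (HQ Q0) ρ ψ c : ℕ) * (ε * (Fintype.card F : ℤ) ^ (m + 1)) : ℤ) : ℂ)) ∧
    ((∀ c, fm (HQ Q0) ρ ψ c ≤ 1) → (∀ c, fm (HQ Q0) ρ ψ c ≠ 0 → P c) → b ≤ mu (HQ (HQ Q0)) ρ ψ 0) := by
  classical
  have hQ : Nondeg (HQ (HQ Q0)) := hTy.up.up.nondeg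
  have hq : (Fintype.card F : ℂ) ≠ 0 := by exact_mod_cast Fintype.card_ne_zero
  have hPh : Ph (fun c => (fm (HQ Q0) ρ ψ c : ℂ)) = ((∑ c, fm (HQ Q0) ρ ψ c : ℕ) : ℂ) := by
    rw [Ph]; push_cast; rfl
  have h1 := exists_fm (HQ Q0) ρ hG hQ hT hψ hρ
  refine ⟨h1, ?_, ?_, ?_⟩
  · have h2 := finrank_eq (HQ Q0) ρ hQ hT hψ
    have h3 := hTy.up.up.sum (fun c => (fm (HQ Q0) ρ ψ c : ℂ))
    rw [hPh] at h3
    have h4 : Sm (HQ (HQ Q0)) (fun c => (fm (HQ Q0) ρ ψ c : ℂ)) =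
        (ε : ℂ) * (Fintype.card F : ℂ) ^ (m + 2) * fm (HQ Q0) ρ ψ 0 +
          ((∑ c, fm (HQ Q0) ρ ψ c : ℕ) : ℂ) *
            ((Fintype.card F : ℂ) ^ (m + 1) * ((Fintype.card F : ℂ) ^ (m + 2) - ε)) := by
      apply mul_left_cancel₀ hq
      rw [h3]
      ring
    rw [h4] at h2
    have h5 : (finrank ℂ M : ℂ) = ((mu (HQ (HQ Q0)) ρ ψ 0 + fm (HQ Q0) ρ ψ 0 *
        (ε * (Fintype.card F : ℤ) ^ (m + 2) - 1) + (∑ c, fm (HQ Q0) ρ ψ c : ℕ) *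
          ((Fintype.card F : ℤ) ^ (m + 1) * ((Fintype.card F : ℤ) ^ (m + 2) - ε)) : ℤ) : ℂ) := by
      rw [h2]
      push_cast
      ring
    exact_mod_cast h5
  · rintro g ⟨u, hu0, w, hu, hw, hw0, hind, he⟩
    have hne : (e0 F (W × F × F)) ≠ 0 := (hyp0 (HQ Q0)).left_ne
    have hg : g = ⟨siegel (HQ (HQ (HQ Q0))) u w hu hw, siegel_mem_E hu hw⟩ := Subtype.ext he
    rw [hg, trace_root (HQ (HQ Q0)) ρ hG hT hu hw hw0 hu0 hind hne (x0_sing Q0),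
      trace_e0 (HQ Q0) ρ hQ hT hψ, hTy.up.sum, hPh, hTy.up.card]
    push_cast
    ring
  · intro hle hP
    refine MinDeg.le_fix ρ hb (rE Q0) ?_ |>.trans_eq ?_
    · rw [trace_fix ρ hG hQ hT hψ]
      · rw [hPh]
        intro he
        have h6 : (finrank ℂ (wt (RR (HQ (HQ Q0)) ρ) 1) : ℂ) = (mu (HQ (HQ Q0)) ρ ψ 0 : ℂ) := by
          rw [mu, ws, ch_zero]
        rw [h6] at he
        have h7 : (Fintype.card F : ℂ) * Fintype.card W * ((∑ c, fm (HQ Q0) ρ ψ c : ℕ) : ℂ) = 0 := by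
          linear_combination -he
        have h8 : (Fintype.card W : ℂ) ≠ 0 := by exact_mod_cast Fintype.card_ne_zero
        have h9 : ((∑ c, fm (HQ Q0) ρ ψ c : ℕ) : ℂ) ≠ 0 := by
          exact_mod_cast (by omega : (∑ c, fm (HQ Q0) ρ ψ c : ℕ) ≠ 0)
        exact mul_ne_zero (mul_ne_zero hq h8) h9 h7
      · intro l hl h2 h3 v hv
        have hmu := mu_eq_fm (HQ Q0) ρ hT ψ hl
        by_cases hz : fm (HQ Q0) ρ ψ (HQ (HQ Q0) l) = 0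
        · rw [hz] at hmu
          have h4 : ws (HQ (HQ Q0)) ρ ψ l = ⊥ := Submodule.finrank_eq_zero.1 hmu
          rw [h4, Submodule.mem_bot] at hv
          rw [hv, map_zero]
        · exact htriv l hl h2 h3 (by rw [hmu]; exact hle _) (hP _ hz) v hv
    · rw [mu, ws, ch_zero]

end Main

end Cfsg.Agent.H122.OrthStep
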