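import Cfsg.Agent.H122.OrthWt

/-!
# Sums over the vectors of a quadratic space

`sum_HQ`: `∑ f (Q x)` over `W × F × F` in terms of `∑ f (Q w)` over `W`; the same weighted with a character of
the last coordinate; the sums over the vectors orthogonal to a totally singular plane.
-/

set_option autoImplicit false
set_option linter.unusedSectionVars false

namespace Cfsg.Agent.H122.OrthSum

open QuadraticMap Module Cfsg.Agent.LieClassical.OrthCore Cfsg.Agent.LieClassical.OrthTrans
  Cfsg.Agent.H122.OrthWt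

variable {F W : Type*} [Field F] [Fintype F] [AddCommGroup W] [Module F W] [Fintype W]
  (Q : QuadraticForm F W)

/-- the total sum of `f` -/
def Ph (f : F → ℂ) : ℂ := ∑ c : F, f c

/-- the sum of `f (Q w)` -/
def Sm (Q : QuadraticForm F W) (f : F → ℂ) : ℂ := ∑ w : W, f (Q w)

theorem sum_affine (f : F → ℂ) (a : F) {b : F} (hb : b ≠ 0) : ∑ x : F, f (a + x * b) = Ph f := by
  refine Fintype.sum_equiv ((Equiv.mulRight₀ b hb).trans (Equiv.addLeft a)) _ _ fun x => ?_
  rfl

theorem sum_lines (f g : F → ℂ) (a : F) :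
    ∑ x : F, ∑ y : F, g y * f (a + x * y) =
      (Fintype.card F : ℂ) * g 0 * f a + (∑ y : F, g y - g 0) * Ph f := by
  classical
  rw [Finset.sum_comm]
  rw [← Finset.add_sum_erase Finset.univ _ (Finset.mem_univ (0 : F))]
  congr 1
  · simp only [mul_zero, add_zero]
    rw [Finset.sum_const, Finset.card_univ, nsmul_eq_mul, mul_assoc]
  · have h1 : ∀ y ∈ Finset.univ.erase (0 : F), ∑ x : F, g y * f (a + x * y) = g y * Ph f := by
      intro y hy
      rw [← Finset.mul_sum, sum_affine f a (Finset.ne_of_mem_erase hy)]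
    rw [Finset.sum_congr rfl h1, ← Finset.sum_mul, Finset.sum_erase_eq_sub (Finset.mem_univ _)]

theorem sum_HQ (f : F → ℂ) :
    Sm (HQ Q) f = (Fintype.card F : ℂ) * Sm Q f + ((Fintype.card F : ℂ) - 1) * Fintype.card W * Ph f := by
  rw [Sm, Fintype.sum_prod_type]
  have h1 : ∀ w : W, ∑ p : F × F, f (HQ Q (w, p)) =
      (Fintype.card F : ℂ) * f (Q w) + ((Fintype.card F : ℂ) - 1) * Ph f := by
    intro w
    rw [Fintype.sum_prod_type]
    have := sum_lines f (fun _ => 1) (Q w)
    simp only [one_mul, mul_one, Finset.sum_const, Finset.card_univ, nsmul_eq_mul] at this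
    exact this
  rw [Finset.sum_congr rfl fun w _ => h1 w, Finset.sum_add_distrib, ← Finset.mul_sum, Finset.sum_const,
    Finset.card_univ, nsmul_eq_mul, Sm]
  ring

theorem sum_HQ_char (f : F → ℂ) {ψ : AddChar F ℂ} (hψ : ψ ≠ 1) :
    ∑ x : W × F × F, ψ x.2.2 * f (HQ Q x) = (Fintype.card F : ℂ) * Sm Q f - Fintype.card W * Ph f := by
  rw [Fintype.sum_prod_type]
  have hs : ∑ y : F, ψ y = 0 := AddChar.sum_eq_zero_of_ne_one hψ
  have h1 : ∀ w : W, ∑ p : F × F, ψ p.2 * f (HQ Q (w, p)) =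
      (Fintype.card F : ℂ) * f (Q w) - Ph f := by
    intro w
    rw [Fintype.sum_prod_type]
    have := sum_lines f (fun y => ψ y) (Q w)
    rw [hs, AddChar.map_zero_eq_one, mul_one, zero_sub, neg_mul, one_mul, ← sub_eq_add_neg] at this
    exact this
  rw [Finset.sum_congr rfl fun w _ => h1 w, Finset.sum_sub_distrib, ← Finset.mul_sum, Finset.sum_const,
    Finset.card_univ, nsmul_eq_mul, Sm]

/-- the sum over the vectors orthogonal to the plane spanned by `e0` and `em e0` -/
theorem sum_perp [DecidableEq F] (f : F → ℂ) :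
    ∑ x : (W × F × F) × F × F, (if x.2.2 = 0 ∧ x.1.2.2 = 0 then f (HQ (HQ Q) x) else 0) =
      (Fintype.card F : ℂ) ^ 2 * Sm Q f := by
  rw [Fintype.sum_prod_type]
  simp only [Fintype.sum_prod_type, HQ_apply]
  have h1 : ∀ (w : W) (a b c d : F),
      (if d = 0 ∧ b = 0 then f (Q w + a * b + c * d) else 0) = if d = 0 then (if b = 0 then f (Q w) else 0) else 0 := by
    intro w a b c d
    by_cases hd : d = 0
    · by_cases hb : b = 0
      · simp [hd, hb]
      · simp [hd, hb]
    · simp [hd]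
  simp only [h1]
  simp only [Finset.sum_ite_eq', Finset.mem_univ, if_true, Finset.sum_const, Finset.card_univ, nsmul_eq_mul]
  have h2 : ∀ w : W, ∑ b : F, (if b = 0 then f (Q w) else 0) = f (Q w) := by
    intro w
    rw [Finset.sum_ite_eq' Finset.univ (0 : F), if_pos (Finset.mem_univ _)]
  simp only [← Finset.mul_sum, h2]
  rw [Sm]
  ring

theorem sum_diff [DecidableEq F] (f : F → ℂ) {ψ : AddChar F ℂ} (hψ : ψ ≠ 1) :
    ∑ x : (W × F × F) × F × F, (ψ x.2.2 - if x.2.2 = 0 ∧ x.1.2.2 = 0 then 1 else 0) * f (HQ (HQ Q) x) =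
      - ((Fintype.card F : ℂ) * Fintype.card W * Ph f) := by
  have h1 : ∀ x : (W × F × F) × F × F,
      (ψ x.2.2 - if x.2.2 = 0 ∧ x.1.2.2 = 0 then 1 else 0) * f (HQ (HQ Q) x) =
        ψ x.2.2 * f (HQ (HQ Q) x) - (if x.2.2 = 0 ∧ x.1.2.2 = 0 then f (HQ (HQ Q) x) else 0) := by
    intro x
    split_ifs <;> ring
  rw [Finset.sum_congr rfl fun x _ => h1 x, Finset.sum_sub_distrib, sum_perp Q f, sum_HQ_char (HQ Q) f hψ,
    sum_HQ]
  have h2 : (Fintype.card (W × F × F) : ℂ) = Fintype.card W * (Fintype.card F * Fintype.card F) := by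
    rw [Fintype.card_prod, Fintype.card_prod]
    push_cast
    ring
  rw [h2]
  ring

end Cfsg.Agent.H122.OrthSum
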